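import Groth.Agent.Lib.Altitude.Basic
import Groth.Agent.Lib.CycBasic.DimFun
import Mathlib.AlgebraicGeometry.Morphisms.FiniteType
import Mathlib.RingTheory.Localization.Ideal

/-!
The dimension inequality / formula for morphisms locally of finite type.
-/

universe u

open CategoryTheory AlgebraicGeometry TopologicalSpace

namespace GrothLib.Altitude

theorem isUniversallyCatenary_of_surjective {R S : Type u} [CommRing R] [CommRing S] (f : R →+* S)
    (hf : Function.Surjective f) (hR : CAlg.IsUniversallyCatenary R) : CAlg.IsUniversallyCatenary S := by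
  haveI := hR.1
  letI := f.toAlgebra
  refine ⟨isNoetherianRing_of_surjective R S f hf, fun T _ _ hT => ?_⟩
  letI : Algebra R T := ((algebraMap S T).comp f).toAlgebra
  haveI : IsScalarTower R S T := IsScalarTower.of_algebraMap_eq fun _ => rfl
  haveI : Algebra.FiniteType R S := Algebra.FiniteType.of_surjective (Algebra.ofId R S) hf
  haveI := hT
  exact hR.2 T (Algebra.FiniteType.trans (inferInstance : Algebra.FiniteType R S) inferInstance)

/-- The quotient of a localization at a prime by a prime. -/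
theorem isLocalization_quotient {R L : Type u} [CommRing R] [CommRing L] [Algebra R L] (Py : Ideal R) [Py.IsPrime]
    [IsLocalization.AtPrime L Py] (Pl : Ideal L) [Pl.IsPrime] (Px : Ideal R) (h : Pl.comap (algebraMap R L) = Px) :
    ∃ (_ : Algebra (R ⧸ Px) (L ⧸ Pl)), IsLocalization (Py.primeCompl.map (Ideal.Quotient.mk Px)) (L ⧸ Pl) := by
  let φ : R ⧸ Px →+* L ⧸ Pl := Ideal.quotientMap Pl (algebraMap R L) (le_of_eq h.symm)
  letI := φ.toAlgebra
  refine ⟨inferInstance, ?_⟩
  refine IsLocalization.of_surjective (S := L) Py.primeCompl (Ideal.Quotient.mk Px) Ideal.Quotient.mk_surjective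
    (Ideal.Quotient.mk Pl) Ideal.Quotient.mk_surjective (RingHom.ext fun r => rfl) ?_
  rw [Ideal.mk_ker, Ideal.mk_ker, ← h]
  exact (IsLocalization.map_under Py.primeCompl L Pl).ge

theorem map_primeCompl_le {R : Type u} [CommRing R] (Py Px : Ideal R) [Py.IsPrime] (h : Px ≤ Py)
    [(Py.map (Ideal.Quotient.mk Px)).IsPrime] :
    Py.primeCompl.map (Ideal.Quotient.mk Px) = (Py.map (Ideal.Quotient.mk Px)).primeCompl := by
  have key : ∀ r, Ideal.Quotient.mk Px r ∈ Py.map (Ideal.Quotient.mk Px) ↔ r ∈ Py := fun r => by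
    rw [← Ideal.mem_comap, Ideal.comap_map_of_surjective _ Ideal.Quotient.mk_surjective,
      ← RingHom.ker_eq_comap_bot, Ideal.mk_ker, sup_eq_left.2 h]
  ext z
  obtain ⟨r, rfl⟩ := Ideal.Quotient.mk_surjective z
  constructor
  · rintro ⟨s, hs, he⟩ hr
    rw [← he] at hr
    exact hs ((key s).1 hr)
  · exact fun hr => ⟨r, fun hp => hr ((key r).2 hp), rfl⟩

theorem ringKrullDim_quotient_eq_height {R L : Type u} [CommRing R] [CommRing L] [Algebra R L] (Py : Ideal R)
    [Py.IsPrime] [IsLocalization.AtPrime L Py] (Pl : Ideal L) [Pl.IsPrime] (Px : Ideal R)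
    (h : Pl.comap (algebraMap R L) = Px) (hle : Px ≤ Py) :
    ringKrullDim (L ⧸ Pl) = ((Py.map (Ideal.Quotient.mk Px)).height : WithBot ℕ∞) := by
  obtain ⟨_, hloc⟩ := isLocalization_quotient Py Pl Px h
  haveI : (Py.map (Ideal.Quotient.mk Px)).IsPrime := by
    haveI : Px.IsPrime := h ▸ inferInstance
    exact Ideal.isPrime_map_quotientMk_of_isPrime hle
  rw [map_primeCompl_le Py Px hle] at hloc
  exact IsLocalization.AtPrime.ringKrullDim_eq_height (Py.map (Ideal.Quotient.mk Px)) (L ⧸ Pl)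

/-- An injective map to a field whose image generates it as a field of fractions is algebraic. -/
theorem isAlgebraic_of_fractions {D κ : Type u} [CommRing D] [IsDomain D] [Field κ] (a : D →+* κ)
    (ha : Function.Injective a) (h : ∀ z : κ, ∃ r s : D, a s ≠ 0 ∧ z * a s = a r) :
    letI := a.toAlgebra; Algebra.IsAlgebraic D κ := by
  letI := a.toAlgebra
  refine ⟨fun z => ?_⟩
  obtain ⟨r, s, hs, hz⟩ := h z
  refine ⟨Polynomial.C s * Polynomial.X - Polynomial.C r, fun h0 => ?_, ?_⟩
  · have := congrArg (fun p => Polynomial.coeff p 1) h0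
    simp at this
    exact hs (by rw [this, map_zero])
  · simp only [map_sub, map_mul, Polynomial.aeval_C, Polynomial.aeval_X, RingHom.algebraMap_toAlgebra]
    rw [mul_comm, hz, sub_self]

theorem trdeg_congr_hom {A A' B B' : Type u} [CommRing A] [IsDomain A] [Field A'] [CommRing B] [IsDomain B]
    [Field B'] [Algebra A B] [FaithfulSMul A B] (i' : A' →+* B') (a : A →+* A') (b : B →+* B')
    (hc : i'.comp a = b.comp (algebraMap A B)) (ha : Function.Injective a) (hb : Function.Injective b)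
    (haa : ∀ z : A', ∃ r s : A, a s ≠ 0 ∧ z * a s = a r)
    (hbb : ∀ z : B', ∃ r s : B, b s ≠ 0 ∧ z * b s = b r) :
    Algebra.trdeg A B = (letI := i'.toAlgebra; Algebra.trdeg A' B') := by
  letI := i'.toAlgebra
  letI := a.toAlgebra
  letI := b.toAlgebra
  letI : Algebra A B' := (b.comp (algebraMap A B)).toAlgebra
  haveI : IsScalarTower A B B' := IsScalarTower.of_algebraMap_eq fun _ => rfl
  haveI : IsScalarTower A A' B' := IsScalarTower.of_algebraMap_eq fun x => (RingHom.congr_fun hc x).symm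
  haveI : FaithfulSMul A A' := (faithfulSMul_iff_algebraMap_injective _ _).2 ha
  haveI : FaithfulSMul B B' := (faithfulSMul_iff_algebraMap_injective _ _).2 hb
  haveI : FaithfulSMul A' B' := (faithfulSMul_iff_algebraMap_injective _ _).2 i'.injective
  haveI : Algebra.IsAlgebraic A A' := isAlgebraic_of_fractions a ha haa
  haveI : Algebra.IsAlgebraic B B' := isAlgebraic_of_fractions b hb hbb
  exact trdeg_congr_algebraic

variable {X S : Scheme.{u}}

/-- the value at a point of a section -/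
noncomputable def evalAt (U : X.Opens) (x : X) (hx : x ∈ U) : Γ(X, U) →+* X.residueField x :=
  (X.presheaf.germ U x hx ≫ X.residue x).hom

theorem ker_evalAt {U : X.Opens} (hU : IsAffineOpen U) (x : X) (hx : x ∈ U) :
    RingHom.ker (evalAt U x hx) = (hU.primeIdealOf ⟨x, hx⟩).asIdeal := by
  ext r
  rw [RingHom.mem_ker, hU.primeIdealOf_eq_map_closedPoint]
  show IsLocalRing.residue (X.presheaf.stalk x) ((X.presheaf.germ U x hx).hom r) = 0 ↔ _
  rw [IsLocalRing.residue_eq_zero_iff]
  rfl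

theorem evalAt_fractions {U : X.Opens} (hU : IsAffineOpen U) (x : X) (hx : x ∈ U) (z : X.residueField x) :
    ∃ r s : Γ(X, U), evalAt U x hx s ≠ 0 ∧ z * evalAt U x hx s = evalAt U x hx r := by
  letI := TopCat.Presheaf.algebra_section_stalk X.presheaf ⟨x, hx⟩
  haveI := hU.isLocalization_stalk ⟨x, hx⟩
  obtain ⟨w, rfl⟩ := IsLocalRing.residue_surjective (R := X.presheaf.stalk x) z
  obtain ⟨⟨r, s⟩, hrs⟩ := IsLocalization.surj (hU.primeIdealOf ⟨x, hx⟩).asIdeal.primeCompl w
  refine ⟨r, s, fun h0 => s.2 ?_, ?_⟩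
  · show (s : Γ(X, U)) ∈ (hU.primeIdealOf ⟨x, hx⟩).asIdeal
    exact (ker_evalAt hU x hx).le (RingHom.mem_ker.2 h0)
  · exact ((IsLocalRing.residue (X.presheaf.stalk x)).map_mul w _).symm.trans
      (congrArg (IsLocalRing.residue (X.presheaf.stalk x)) hrs)

theorem evalAt_appLE (f : X ⟶ S) {V : S.Opens} {U : X.Opens} (e : U ≤ f ⁻¹ᵁ V) (x : X) (hx : x ∈ U) :
    (f.residueFieldMap x).hom.comp (evalAt V (f x) (e hx)) = (evalAt U x hx).comp (f.appLE V U e).hom := by
  simp only [evalAt, ← CommRingCat.hom_comp]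
  congr 1
  rw [Category.assoc, Scheme.residue_residueFieldMap, ← Category.assoc, Scheme.Hom.germ_stalkMap,
    ← Category.assoc, Scheme.Hom.appLE]
  simp only [Category.assoc, TopCat.Presheaf.germ_res_assoc]

theorem ker_specMap_comap_germ {U : X.Opens} (hU : IsAffineOpen U) {x y : X} (h : x ⤳ y) (hy : y ∈ U) :
    (RingHom.ker (Cyc.specMap y x h)).comap (X.presheaf.germ U y hy).hom =
      (hU.primeIdealOf ⟨x, h.mem_open U.2 hy⟩).asIdeal := by
  rw [← ker_evalAt hU x (h.mem_open U.2 hy), RingHom.comap_ker]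
  congr 1
  simp only [Cyc.specMap, evalAt, ← CommRingCat.hom_comp]
  rw [← Category.assoc, TopCat.Presheaf.germ_stalkSpecializes]

theorem primeIdealOf_mono {U : X.Opens} (hU : IsAffineOpen U) {x y : X} (h : x ⤳ y) (hy : y ∈ U) :
    (hU.primeIdealOf ⟨x, h.mem_open U.2 hy⟩).asIdeal ≤ (hU.primeIdealOf ⟨y, hy⟩).asIdeal := by
  rw [← ker_specMap_comap_germ hU h hy, hU.primeIdealOf_eq_map_closedPoint]
  exact Ideal.comap_mono (IsLocalRing.le_maximalIdeal (RingHom.ker_ne_top _))

theorem ringKrullDim_locQuot_eq_height {U : X.Opens} (hU : IsAffineOpen U) {x y : X} (h : x ⤳ y) (hy : y ∈ U) :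
    ringKrullDim (Cyc.LocQuot y x h) = (((hU.primeIdealOf ⟨y, hy⟩).asIdeal.map
      (Ideal.Quotient.mk (hU.primeIdealOf ⟨x, h.mem_open U.2 hy⟩).asIdeal)).height : WithBot ℕ∞) := by
  letI := TopCat.Presheaf.algebra_section_stalk X.presheaf ⟨y, hy⟩
  haveI := hU.isLocalization_stalk ⟨y, hy⟩
  haveI : (RingHom.ker (Cyc.specMap y x h)).IsPrime := RingHom.ker_isPrime _
  exact ringKrullDim_quotient_eq_height (L := X.presheaf.stalk y) (hU.primeIdealOf ⟨y, hy⟩).asIdeal
    (RingHom.ker (Cyc.specMap y x h)) _ (ker_specMap_comap_germ hU h hy) (primeIdealOf_mono hU h hy)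

/-- **Dimension inequality** for a specialization `x ⤳ y`, with equality over universally
catenary local rings. -/
theorem dim_locQuot_add_trdeg (f : X ⟶ S) [LocallyOfFiniteType f] [IsLocallyNoetherian S] {x y : X}
    (h : x ⤳ y) :
    ∃ t s a b : ℕ,
      (letI := (f.residueFieldMap x).hom.toAlgebra
       Algebra.trdeg (S.residueField (f x)) (X.residueField x)) = t ∧
      (letI := (f.residueFieldMap y).hom.toAlgebra
       Algebra.trdeg (S.residueField (f y)) (X.residueField y)) = s ∧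
      ringKrullDim (Cyc.LocQuot y x h) = a ∧
      ringKrullDim (Cyc.LocQuot (f y) (f x) (h.map f.continuous)) = b ∧
      a + s ≤ b + t ∧ (CAlg.IsUniversallyCatenary (S.presheaf.stalk (f y)) → a + s = b + t) := by
  obtain ⟨V, hV, hyV, -⟩ := exists_isAffineOpen_mem_and_subset (x := f y) (U := ⊤) trivial
  obtain ⟨U, hU, hyU, e⟩ := exists_isAffineOpen_mem_and_subset (x := y) (U := f ⁻¹ᵁ V) hyV
  have hxU : x ∈ U := h.mem_open U.2 hyU
  have hxV : f x ∈ V := e hxU
  haveI : IsNoetherianRing Γ(S, V) := IsLocallyNoetherian.component_noetherian ⟨V, hV⟩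
  let φ := (f.appLE V U e).hom
  have hft : φ.FiniteType := f.finiteType_appLE hV hU e
  let qx := (hV.primeIdealOf ⟨f x, hxV⟩).asIdeal
  let qy := (hV.primeIdealOf ⟨f y, hyV⟩).asIdeal
  let Px := (hU.primeIdealOf ⟨x, hxU⟩).asIdeal
  let Py := (hU.primeIdealOf ⟨y, hyU⟩).asIdeal
  have hqx : Px.comap φ = qx := congrArg PrimeSpectrum.asIdeal (IsAffineOpen.comap_primeIdealOf_appLE V hV U hU e hxU)
  have hqy : Py.comap φ = qy := congrArg PrimeSpectrum.asIdeal (IsAffineOpen.comap_primeIdealOf_appLE V hV U hU e hyU)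
  have hPle : Px ≤ Py := primeIdealOf_mono hU h hyU
  have hqle : qx ≤ qy := hqx ▸ hqy ▸ Ideal.comap_mono hPle
  letI : Algebra Γ(S, V) Γ(X, U) := φ.toAlgebra
  haveI : Algebra.FiniteType Γ(S, V) Γ(X, U) := hft
  haveI : Px.LiesOver qx := ⟨hqx.symm⟩
  haveI : Algebra.FiniteType (Γ(S, V) ⧸ qx) (Γ(X, U) ⧸ Px) := by
    haveI : Algebra.FiniteType Γ(S, V) (Γ(X, U) ⧸ Px) := inferInstance
    exact Algebra.FiniteType.of_restrictScalars_finiteType Γ(S, V) (Γ(S, V) ⧸ qx) (Γ(X, U) ⧸ Px)
  let p := qy.map (Ideal.Quotient.mk qx)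
  let P := Py.map (Ideal.Quotient.mk Px)
  haveI : p.IsPrime := Ideal.isPrime_map_quotientMk_of_isPrime hqle
  haveI : P.IsPrime := Ideal.isPrime_map_quotientMk_of_isPrime hPle
  have hPc : P.comap (Ideal.Quotient.mk Px) = Py := by
    rw [Ideal.comap_map_of_surjective _ Ideal.Quotient.mk_surjective, ← RingHom.ker_eq_comap_bot,
      Ideal.mk_ker, sup_eq_left.2 hPle]
  have hpc : p.comap (Ideal.Quotient.mk qx) = qy := by
    rw [Ideal.comap_map_of_surjective _ Ideal.Quotient.mk_surjective, ← RingHom.ker_eq_comap_bot,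
      Ideal.mk_ker, sup_eq_left.2 hqle]
  haveI : P.LiesOver p := ⟨Ideal.comap_injective_of_surjective _ Ideal.Quotient.mk_surjective (by
    rw [hpc, ← hqy, ← hPc, Ideal.under_def, Ideal.comap_comap, Ideal.comap_comap]
    rfl)⟩
  obtain ⟨t, s, ht, hs, hle, heq⟩ := height_add_trdeg (Γ(S, V) ⧸ qx) (Γ(X, U) ⧸ Px) p P
  haveI : IsNoetherianRing (Γ(X, U) ⧸ Px) := Algebra.FiniteType.isNoetherianRing (Γ(S, V) ⧸ qx) _
  obtain ⟨a, ha⟩ := ENat.ne_top_iff_exists.1 (Ideal.height_ne_top (I := P) Ideal.IsPrime.ne_top')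
  obtain ⟨b, hb⟩ := ENat.ne_top_iff_exists.1 (Ideal.height_ne_top (I := p) Ideal.IsPrime.ne_top')
  refine ⟨t, s, a, b, ?_, ?_, ?_, ?_, ?_, ?_⟩
  · rw [← ht]
    refine (trdeg_congr_hom (A := Γ(S, V) ⧸ qx) (B := Γ(X, U) ⧸ Px) (f.residueFieldMap x).hom
      (Ideal.Quotient.lift qx (evalAt V (f x) hxV) (fun r hr => by
        rwa [← RingHom.mem_ker, ker_evalAt hV]))
      (Ideal.Quotient.lift Px (evalAt U x hxU) (fun r hr => by
        rwa [← RingHom.mem_ker, ker_evalAt hU]))
      ?_ (RingHom.lift_injective_of_ker_le_ideal _ _ (ker_evalAt hV _ _).le)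
      (RingHom.lift_injective_of_ker_le_ideal _ _ (ker_evalAt hU _ _).le) ?_ ?_).symm
    · exact Ideal.Quotient.ringHom_ext (evalAt_appLE f e x hxU)
    · intro z
      obtain ⟨r, c, h1, h2⟩ := evalAt_fractions hV (f x) hxV z
      exact ⟨Ideal.Quotient.mk qx r, Ideal.Quotient.mk qx c, h1, h2⟩
    · intro z
      obtain ⟨r, c, h1, h2⟩ := evalAt_fractions hU x hxU z
      exact ⟨Ideal.Quotient.mk Px r, Ideal.Quotient.mk Px c, h1, h2⟩
  · rw [← hs]
    have hinj : ∀ {D : Type u} [CommRing D] (P : Ideal D) {κ : Type u} [Field κ] (g : D →+* κ)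
        (hg : RingHom.ker g = P), Function.Injective
          (Ideal.Quotient.lift P g (fun r hr => by rwa [← RingHom.mem_ker, hg])) :=
      fun P _ _ g hg => RingHom.lift_injective_of_ker_le_ideal P _ hg.le
    let γS : Γ(S, V) ⧸ qx →+* S.residueField (f y) := Ideal.Quotient.lift qx (evalAt V (f y) hyV)
      (fun r hr => by rw [← RingHom.mem_ker, ker_evalAt hV]; exact hqle hr)
    let γX : Γ(X, U) ⧸ Px →+* X.residueField y := Ideal.Quotient.lift Px (evalAt U y hyU)
      (fun r hr => by rw [← RingHom.mem_ker, ker_evalAt hU]; exact hPle hr)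
    have hkS : RingHom.ker γS = p := Ideal.comap_injective_of_surjective _ Ideal.Quotient.mk_surjective (by
      rw [RingHom.comap_ker, hpc]; exact ker_evalAt hV (f y) hyV)
    have hkX : RingHom.ker γX = P := Ideal.comap_injective_of_surjective _ Ideal.Quotient.mk_surjective (by
      rw [RingHom.comap_ker, hPc]; exact ker_evalAt hU y hyU)
    refine (trdeg_congr_hom (A := (Γ(S, V) ⧸ qx) ⧸ p) (B := (Γ(X, U) ⧸ Px) ⧸ P) (f.residueFieldMap y).hom
      (Ideal.Quotient.lift p γS (fun r hr => by rwa [← RingHom.mem_ker, hkS]))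
      (Ideal.Quotient.lift P γX (fun r hr => by rwa [← RingHom.mem_ker, hkX]))
      ?_ (hinj p γS hkS) (hinj P γX hkX) ?_ ?_).symm
    · exact Ideal.Quotient.ringHom_ext (Ideal.Quotient.ringHom_ext (evalAt_appLE f e y hyU))
    · intro z
      obtain ⟨r, c, h1, h2⟩ := evalAt_fractions hV (f y) hyV z
      exact ⟨Ideal.Quotient.mk p (Ideal.Quotient.mk qx r), Ideal.Quotient.mk p (Ideal.Quotient.mk qx c), h1, h2⟩
    · intro z
      obtain ⟨r, c, h1, h2⟩ := evalAt_fractions hU y hyU z
      exact ⟨Ideal.Quotient.mk P (Ideal.Quotient.mk Px r), Ideal.Quotient.mk P (Ideal.Quotient.mk Px c), h1, h2⟩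
  · rw [ringKrullDim_locQuot_eq_height hU h hyU]
    exact congrArg WithBot.some ha.symm
  · rw [ringKrullDim_locQuot_eq_height hV (h.map f.continuous) hyV]
    exact congrArg WithBot.some hb.symm
  · rw [← ha, ← hb] at hle
    exact_mod_cast hle
  · intro hUC
    letI := TopCat.Presheaf.algebra_section_stalk S.presheaf ⟨f y, hyV⟩
    haveI := hV.isLocalization_stalk ⟨f y, hyV⟩
    have hfx : f x ⤳ f y := h.map f.continuous
    haveI : (RingHom.ker (Cyc.specMap (f y) (f x) hfx)).IsPrime := RingHom.ker_isPrime _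
    obtain ⟨_, hloc⟩ := isLocalization_quotient (L := S.presheaf.stalk (f y)) qy
      (RingHom.ker (Cyc.specMap (f y) (f x) hfx)) qx (ker_specMap_comap_germ hV hfx hyV)
    have := @heq (qy.primeCompl.map (Ideal.Quotient.mk qx))
      (S.presheaf.stalk (f y) ⧸ RingHom.ker (Cyc.specMap (f y) (f x) hfx)) _ _ hloc
      (map_primeCompl_le qy qx hqle).le
      (isUniversallyCatenary_of_surjective _ Ideal.Quotient.mk_surjective hUC)
    rw [← ha, ← hb] at this
    exact_mod_cast this

/-- A point of the source is below the image: the case of a dominant specialization used with δ. -/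
theorem isDimFun_of_deltaCompat (f : X ⟶ S) [LocallyOfFiniteType f] {δ : S → ℤ} (hS : Cyc.IsSetup S δ)
    {δX : X → ℤ} (hδ : Cyc.DeltaCompat f δX δ) {x y : X} (h : x ⤳ y) :
    ringKrullDim (Cyc.LocQuot y x h) = ((δX x - δX y).toNat : WithBot ℕ∞) ∧ δX y ≤ δX x := by
  haveI := hS.1
  obtain ⟨t, s, a, b, ht, hs, ha, hb, -, heq⟩ := dim_locQuot_add_trdeg f h
  have heq := heq (hS.2.1 _)
  rw [GrothLib.CycBasic.ringKrullDim_locQuot hS.2.2 _ _ (h.map f.continuous)] at hb
  have hle := GrothLib.CycBasic.delta_le hS.2.2 (h.map f.continuous)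
  have hb' : (δ (f x) - δ (f y)).toNat = b := by exact_mod_cast hb
  obtain ⟨nx, hnx, hx⟩ := hδ x
  obtain ⟨ny, hny, hy⟩ := hδ y
  have e1 : nx = t := Nat.cast_injective (R := Cardinal) (hnx.symm.trans ht)
  have e2 : ny = s := Nat.cast_injective (R := Cardinal) (hny.symm.trans hs)
  refine ⟨?_, by omega⟩
  rw [ha]
  exact_mod_cast (show a = (δX x - δX y).toNat by omega)

end GrothLib.Altitude
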