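import Groth.Agent.Lib.Altitude.Chains
import Groth.Agent.Lib.Dim.Ring
import Mathlib.RingTheory.MvPolynomial.Localization
import Mathlib.RingTheory.KrullDimension.Polynomial
import Mathlib.RingTheory.Flat.FaithfullyFlat.Basic
import Mathlib.RingTheory.Ideal.GoingDown
import Mathlib.RingTheory.Polynomial.Quotient
import Mathlib.RingTheory.AlgebraicIndependent.TranscendenceBasis
import Mathlib.RingTheory.Localization.Ideal

/-!
The dimension inequality and dimension formula.
-/

universe u

namespace GrothLib.Altitude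

open Ideal

/-- transcendence degree is unchanged along algebraic injective maps -/
theorem trdeg_congr_algebraic {A A' B B' : Type u} [CommRing A] [IsDomain A] [CommRing A'] [IsDomain A']
    [CommRing B] [IsDomain B] [CommRing B'] [IsDomain B'] [Algebra A B] [Algebra A' B'] [Algebra A A']
    [Algebra B B'] [FaithfulSMul A A'] [FaithfulSMul B B'] [FaithfulSMul A B] [FaithfulSMul A' B']
    [Algebra.IsAlgebraic A A'] [Algebra.IsAlgebraic B B'] [Algebra A B'] [IsScalarTower A B B']
    [IsScalarTower A A' B'] :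
    Algebra.trdeg A B = Algebra.trdeg A' B' := by
  have h1 := trdeg_add_eq A A' (A := B')
  have h2 := trdeg_add_eq A B (A := B')
  rw [trdeg_eq_zero, zero_add] at h1
  rw [trdeg_eq_zero (R := B) (A := B'), add_zero] at h2
  exact h2.trans h1.symm

theorem trdeg_eq_of_ringEquiv {A B C : Type u} [CommRing A] [CommRing B] [CommRing C] [Algebra A B]
    [Algebra A C] (e : B ≃+* C) (h : ∀ a, e (algebraMap A B a) = algebraMap A C a) :
    Algebra.trdeg A B = Algebra.trdeg A C :=
  (AlgEquiv.ofRingEquiv (f := e) h).trdeg_eq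

variable {A : Type u} [CommRing A] [IsNoetherianRing A] {n : ℕ}

set_option backward.isDefEq.respectTransparency false in
/-- dimension formula for primes of a polynomial ring meeting the base in zero -/
theorem height_add_trdeg_mvPolynomial_of_under_eq_bot [IsDomain A]
    (P : Ideal (MvPolynomial (Fin n) A)) [P.IsPrime] (hP : P.under A = ⊥) :
    ∃ s : ℕ, Algebra.trdeg A (MvPolynomial (Fin n) A ⧸ P) = s ∧ P.height + s = n := by
  classical
  let S := MvPolynomial (Fin n) A
  let K := FractionRing A
  let T := MvPolynomial (Fin n) K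
  let F := FractionRing (S ⧸ P)
  letI : Algebra S T := MvPolynomial.algebraMvPolynomial
  haveI : IsLocalization ((nonZeroDivisors A).map (MvPolynomial.C (σ := Fin n))) T :=
    MvPolynomial.isLocalization (nonZeroDivisors A) K
  haveI hAS : FaithfulSMul A (S ⧸ P) := by
    refine (faithfulSMul_iff_algebraMap_injective A (S ⧸ P)).2 ((injective_iff_map_eq_zero _).2 fun a ha => ?_)
    have : a ∈ P.under A := by
      rw [Ideal.mem_comap]
      exact Ideal.Quotient.eq_zero_iff_mem.1 ha
    rwa [hP] at this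
  haveI : FaithfulSMul A F := by
    refine (faithfulSMul_iff_algebraMap_injective A F).2 ?_
    intro a b hab
    rw [IsScalarTower.algebraMap_apply A (S ⧸ P) F, IsScalarTower.algebraMap_apply A (S ⧸ P) F] at hab
    exact FaithfulSMul.algebraMap_injective A (S ⧸ P) (IsFractionRing.injective (S ⧸ P) F hab)
  letI : Algebra K F := FractionRing.liftAlgebra A F
  let g : T →ₐ[K] F := MvPolynomial.aeval fun i => algebraMap (S ⧸ P) F (Ideal.Quotient.mk P (MvPolynomial.X i))
  have hg : g.toRingHom.comp (algebraMap S T) = (algebraMap (S ⧸ P) F).comp (Ideal.Quotient.mk P) := by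
    refine MvPolynomial.ringHom_ext (fun a => ?_) (fun i => ?_)
    · show g (algebraMap S T (MvPolynomial.C a)) = _
      rw [MvPolynomial.algebraMap_def, MvPolynomial.map_C, MvPolynomial.algHom_C]
      exact (IsScalarTower.algebraMap_apply A K F a).symm.trans (IsScalarTower.algebraMap_apply A (S ⧸ P) F a)
    · show g (algebraMap S T (MvPolynomial.X i)) = _
      rw [MvPolynomial.algebraMap_def, MvPolynomial.map_X]
      exact MvPolynomial.aeval_X (R := K) _ i
  let P' : Ideal T := RingHom.ker g.toRingHom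
  haveI : P'.IsPrime := RingHom.ker_isPrime g.toRingHom
  have hunder : P'.under S = P := by
    ext x
    rw [Ideal.mem_comap]
    show g (algebraMap S T x) = 0 ↔ _
    rw [show g (algebraMap S T x) = algebraMap (S ⧸ P) F (Ideal.Quotient.mk P x) from RingHom.congr_fun hg x,
      map_eq_zero_iff _ (IsFractionRing.injective _ _), Ideal.Quotient.eq_zero_iff_mem]
  have hheight : P'.height = P.height := by
    conv_rhs => rw [← hunder]
    exact (IsLocalization.height_under ((nonZeroDivisors A).map (MvPolynomial.C (σ := Fin n))) P').symm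
  haveI : Algebra.FiniteType K (T ⧸ P') := inferInstance
  obtain ⟨s, hs, hdim⟩ := GrothLib.Dim.exists_nat_trdeg_eq_and_ringKrullDim_eq K (T ⧸ P')
  have hformula := GrothLib.AffDom.height_add_ringKrullDim_quotient K T P'
  rw [hdim, hheight, MvPolynomial.ringKrullDim_of_isNoetherianRing, ringKrullDim_eq_zero_of_field,
    Nat.card_fin, zero_add] at hformula
  refine ⟨s, ?_, ?_⟩
  · rw [← hs]
    let j : T ⧸ P' →ₐ[K] F := Ideal.Quotient.liftₐ P' g fun x hx => hx
    have hj : Function.Injective j := (injective_iff_map_eq_zero j).2 fun x hx => by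
      obtain ⟨y, rfl⟩ := Ideal.Quotient.mk_surjective x
      exact Ideal.Quotient.eq_zero_iff_mem.2 hx
    letI : Algebra (T ⧸ P') F := j.toRingHom.toAlgebra
    haveI : IsScalarTower K (T ⧸ P') F := IsScalarTower.of_algebraMap_eq' (R := K) (S := T ⧸ P') (A := F) j.comp_algebraMap.symm
    haveI : FaithfulSMul (T ⧸ P') F := (faithfulSMul_iff_algebraMap_injective _ _).2 hj
    haveI : FaithfulSMul K (T ⧸ P') := (faithfulSMul_iff_algebraMap_injective _ _).2 (RingHom.injective _)
    haveI : Algebra.IsAlgebraic (S ⧸ P) F := IsLocalization.isAlgebraic F (nonZeroDivisors (S ⧸ P))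
    haveI : Algebra.IsAlgebraic A K := IsLocalization.isAlgebraic K (nonZeroDivisors A)
    haveI : P'.LiesOver P := ⟨hunder.symm⟩
    haveI : IsScalarTower (S ⧸ P) (T ⧸ P') F := IsScalarTower.of_algebraMap_eq (R := S ⧸ P) (S := T ⧸ P') (A := F) fun x => by
      obtain ⟨y, rfl⟩ := Ideal.Quotient.mk_surjective x
      exact (RingHom.congr_fun hg y).symm
    haveI : Algebra.IsAlgebraic (T ⧸ P') F := Algebra.IsAlgebraic.extendScalars (R := S ⧸ P)
      (FaithfulSMul.algebraMap_injective (S ⧸ P) (T ⧸ P'))
    haveI : FaithfulSMul K F := (faithfulSMul_iff_algebraMap_injective _ _).2 (RingHom.injective _)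
    exact (trdeg_congr_algebraic (A := A) (A' := K) (B := S ⧸ P) (B' := F)).trans
      (trdeg_congr_algebraic (A := K) (A' := K) (B := T ⧸ P') (B' := F)).symm
  · exact WithBot.coe_injective hformula

/-- dimension formula for arbitrary primes of a polynomial ring over a noetherian ring -/
theorem height_add_trdeg_mvPolynomial (p : Ideal A) [p.IsPrime] (P : Ideal (MvPolynomial (Fin n) A))
    [P.IsPrime] [P.LiesOver p] :
    ∃ s : ℕ, Algebra.trdeg (A ⧸ p) (MvPolynomial (Fin n) A ⧸ P) = s ∧ P.height + s = p.height + n := by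
  let S := MvPolynomial (Fin n) A
  let φ : S →+* MvPolynomial (Fin n) (A ⧸ p) := MvPolynomial.map (Ideal.Quotient.mk p)
  have hφ : Function.Surjective φ := MvPolynomial.map_surjective _ Ideal.Quotient.mk_surjective
  have hker : RingHom.ker φ = p.map (algebraMap A S) := by
    rw [MvPolynomial.algebraMap_eq, show φ = MvPolynomial.map (Ideal.Quotient.mk p) from rfl,
      MvPolynomial.ker_map, Ideal.mk_ker]
  have hle : RingHom.ker φ ≤ P := by
    rw [hker, Ideal.map_le_iff_le_comap]; exact (Ideal.LiesOver.over (P := P) (p := p)).le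
  let Pb := P.map φ
  haveI : Pb.IsPrime := Ideal.map_isPrime_of_surjective hφ hle
  have hcomap : Pb.comap φ = P := by
    rw [Ideal.comap_map_of_surjective _ hφ, ← RingHom.ker_eq_comap_bot, sup_eq_left.2 hle]
  have hbot : Pb.under (A ⧸ p) = ⊥ := by
    rw [eq_bot_iff]
    intro x hx
    obtain ⟨a, rfl⟩ := Ideal.Quotient.mk_surjective x
    rw [Ideal.mem_comap, MvPolynomial.algebraMap_eq] at hx
    have : MvPolynomial.C a ∈ P := by
      rw [← hcomap, Ideal.mem_comap, show φ (MvPolynomial.C a) = MvPolynomial.C (Ideal.Quotient.mk p a) from MvPolynomial.map_C _ _]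
      exact hx
    rw [Submodule.mem_bot, Ideal.Quotient.eq_zero_iff_mem, Ideal.LiesOver.over (P := P) (p := p)]
    rwa [Ideal.mem_comap, MvPolynomial.algebraMap_eq]
  obtain ⟨s, hs, hh⟩ := height_add_trdeg_mvPolynomial_of_under_eq_bot Pb hbot
  refine ⟨s, ?_, ?_⟩
  · rw [← hs]
    let χ : S →+* MvPolynomial (Fin n) (A ⧸ p) ⧸ Pb := (Ideal.Quotient.mk Pb).comp φ
    have hχ : Function.Surjective χ := Ideal.Quotient.mk_surjective.comp hφ
    have hkχ : RingHom.ker χ = P := by
      rw [← RingHom.comap_ker, Ideal.mk_ker, hcomap]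
    refine trdeg_eq_of_ringEquiv ((Ideal.quotEquivOfEq hkχ.symm).trans (RingHom.quotientKerEquivOfSurjective hχ)) ?_
    intro x
    obtain ⟨a, rfl⟩ := Ideal.Quotient.mk_surjective x
    show χ (algebraMap A S a) = Ideal.Quotient.mk Pb (algebraMap (A ⧸ p) (MvPolynomial (Fin n) (A ⧸ p)) _)
    simp [χ, φ, S, MvPolynomial.algebraMap_eq]
  · rw [height_eq_height_add_of_liesOver_of_hasGoingDown p P, ← hh, add_assoc]
    congr 2
    let e : S ⧸ p.map (algebraMap A S) ≃+* MvPolynomial (Fin n) (A ⧸ p) :=
      (Ideal.quotEquivOfEq hker.symm).trans (RingHom.quotientKerEquivOfSurjective hφ)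
    rw [← e.height_map (P.map (Ideal.Quotient.mk _))]
    congr 1
    show ((P.map (Ideal.Quotient.mk _)).map (e : S ⧸ p.map (algebraMap A S) →+* _)) = P.map φ
    rw [Ideal.map_map]
    rfl

theorem height_add_height_map_le {R : Type u} [CommRing R] [IsNoetherianRing R] (Q P : Ideal R)
    [Q.IsPrime] [P.IsPrime] (h : Q ≤ P) :
    Q.height + (P.map (Ideal.Quotient.mk Q)).height ≤ P.height := by
  let π := Ideal.Quotient.mk Q
  have hP' : (P.map π).IsPrime := Ideal.isPrime_map_quotientMk_of_isPrime h
  obtain ⟨a, ha⟩ := ENat.ne_top_iff_exists.1 (Ideal.height_ne_top (I := Q) Ideal.IsPrime.ne_top')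
  obtain ⟨b, hb⟩ := ENat.ne_top_iff_exists.1 (Ideal.height_ne_top (I := P.map π) Ideal.IsPrime.ne_top')
  rw [← ha, ← hb]
  obtain ⟨s, s1, s2⟩ := Order.exists_series_of_height_eq_coe (⟨Q, inferInstance⟩ : PrimeSpectrum R)
    (n := a) (by rw [← PrimeSpectrum.height_eq_orderHeight]; exact ha.symm)
  obtain ⟨t, t1, t2⟩ := Order.exists_series_of_le_height (⟨P.map π, hP'⟩ : PrimeSpectrum (R ⧸ Q))
    (n := b) (by rw [← PrimeSpectrum.height_eq_orderHeight]; exact hb.le)
  have hQbot : (Q.map π) = ⊥ := Ideal.map_quotient_self Q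
  -- a maximal chain starts at the zero ideal
  haveI : IsDomain (R ⧸ Q) := inferInstance
  let f : PrimeSpectrum (R ⧸ Q) → PrimeSpectrum R := PrimeSpectrum.comap π
  have hf : StrictMono f := RingHom.strictMono_comap_of_surjective Ideal.Quotient.mk_surjective
  have hlast : (t.map f hf).last = ⟨P, inferInstance⟩ := by
    rw [LTSeries.last_map, t1]
    exact PrimeSpectrum.ext (by
      show (P.map π).comap π = P
      rw [Ideal.comap_map_of_surjective _ Ideal.Quotient.mk_surjective, ← RingHom.ker_eq_comap_bot,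
        Ideal.mk_ker, sup_eq_left.mpr h])
  have hhead : s.last ≤ (t.map f hf).head := by
    rw [s1, LTSeries.head_map]
    intro r hr
    show π r ∈ t.head.asIdeal
    rw [Ideal.Quotient.eq_zero_iff_mem.2 hr]
    exact zero_mem _
  rw [PrimeSpectrum.height_eq_orderHeight (⟨P, inferInstance⟩ : PrimeSpectrum R)]
  rcases eq_or_lt_of_le hhead with he | hlt
  · have := Order.length_le_height (p := RelSeries.smash s (t.map f hf) he)
      (x := (⟨P, inferInstance⟩ : PrimeSpectrum R)) (by rw [RelSeries.last_smash, hlast])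
    simpa [s2, t2] using this
  · have := Order.length_le_height (p := RelSeries.append s (t.map f hf) hlt)
      (x := (⟨P, inferInstance⟩ : PrimeSpectrum R)) (by rw [RelSeries.last_append, hlast])
    simp [s2, t2] at this
    exact le_trans le_self_add this

variable (A) in
/-- **Dimension inequality**, with equality over universally catenary rings. -/
theorem height_add_trdeg [IsDomain A] (B : Type u) [CommRing B] [IsDomain B] [Algebra A B]
    [FaithfulSMul A B] [Algebra.FiniteType A B] (p : Ideal A) [p.IsPrime] (P : Ideal B) [P.IsPrime]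
    [P.LiesOver p] :
    ∃ t s : ℕ, Algebra.trdeg A B = t ∧ Algebra.trdeg (A ⧸ p) (B ⧸ P) = s ∧
      P.height + s ≤ p.height + t ∧
      ∀ (M : Submonoid A) (L : Type u) [CommRing L] [Algebra A L] [IsLocalization M L],
        M ≤ p.primeCompl → CAlg.IsUniversallyCatenary L → P.height + s = p.height + t := by
  obtain ⟨n, π, hπ⟩ := Algebra.FiniteType.iff_quotient_mvPolynomial''.1 (inferInstance : Algebra.FiniteType A B)
  let S := MvPolynomial (Fin n) A
  let Q : Ideal S := RingHom.ker π
  let P₁ : Ideal S := P.comap π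
  haveI : Q.IsPrime := RingHom.ker_isPrime π.toRingHom
  have hQP : Q ≤ P₁ := fun x (hx : π x = 0) => by
    show π x ∈ P
    rw [hx]; exact zero_mem _
  haveI : P₁.LiesOver p := ⟨by
    rw [Ideal.LiesOver.over (P := P) (p := p)]
    ext a
    simp [P₁, Ideal.under]⟩
  have hQ : Q.under A = ⊥ := by
    rw [eq_bot_iff]
    intro a ha
    simp only [Q, Ideal.mem_comap, RingHom.mem_ker, AlgHom.commutes] at ha
    exact (map_eq_zero_iff _ (FaithfulSMul.algebraMap_injective A B)).1 ha
  obtain ⟨t, ht, htQ⟩ := height_add_trdeg_mvPolynomial_of_under_eq_bot Q hQ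
  obtain ⟨s, hs, hsP⟩ := height_add_trdeg_mvPolynomial p P₁
  let e : (S ⧸ Q) ≃ₐ[A] B := Ideal.quotientKerAlgEquivOfSurjective hπ
  have hmap : (P₁.map (Ideal.Quotient.mk Q)).height = P.height := by
    rw [← (e.toRingEquiv).height_map (P₁.map (Ideal.Quotient.mk Q))]
    congr 1
    show (P₁.map (Ideal.Quotient.mk Q)).map (e.toRingEquiv : (S ⧸ Q) →+* B) = P
    rw [Ideal.map_map, show (e.toRingEquiv : (S ⧸ Q) →+* B).comp (Ideal.Quotient.mk Q) = π.toRingHom from RingHom.ext fun x => rfl]
    exact Ideal.map_comap_of_surjective _ hπ P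
  have htB : Algebra.trdeg A B = t := by rw [← ht, e.trdeg_eq]
  have hsB : Algebra.trdeg (A ⧸ p) (B ⧸ P) = s := by
    rw [← hs]
    let χ : S →+* B ⧸ P := (Ideal.Quotient.mk P).comp π.toRingHom
    have hχ : Function.Surjective χ := Ideal.Quotient.mk_surjective.comp hπ
    have hkχ : RingHom.ker χ = P₁ := by rw [← RingHom.comap_ker, Ideal.mk_ker]; rfl
    refine (trdeg_eq_of_ringEquiv ((Ideal.quotEquivOfEq hkχ.symm).trans (RingHom.quotientKerEquivOfSurjective hχ)) ?_).symm
    intro x
    obtain ⟨a, rfl⟩ := Ideal.Quotient.mk_surjective x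
    show χ (algebraMap A S a) = Ideal.Quotient.mk P (algebraMap A B a)
    simp [χ, S]
  have hge := height_add_height_map_le Q P₁ hQP
  rw [hmap] at hge
  obtain ⟨a, ha⟩ := ENat.ne_top_iff_exists.1 (Ideal.height_ne_top (I := Q) Ideal.IsPrime.ne_top')
  obtain ⟨b, hb⟩ := ENat.ne_top_iff_exists.1 (Ideal.height_ne_top (I := P₁) Ideal.IsPrime.ne_top')
  obtain ⟨c, hc⟩ := ENat.ne_top_iff_exists.1 (Ideal.height_ne_top (I := p) Ideal.IsPrime.ne_top')
  haveI : IsNoetherianRing B := Algebra.FiniteType.isNoetherianRing A B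
  obtain ⟨h, hh⟩ := ENat.ne_top_iff_exists.1 (Ideal.height_ne_top (I := P) Ideal.IsPrime.ne_top')
  rw [← ha] at htQ
  rw [← hb, ← hc] at hsP
  rw [← ha, ← hh, ← hb] at hge
  norm_cast at htQ hsP hge
  refine ⟨t, s, htB, hsB, by rw [← hh, ← hc]; norm_cast; omega, ?_⟩
  intro M L _ _ _ hM hUC
  let S' := MvPolynomial (Fin n) L
  letI : Algebra S S' := MvPolynomial.algebraMvPolynomial
  let N := M.map (MvPolynomial.C (σ := Fin n))
  haveI : IsLocalization N S' := MvPolynomial.isLocalization M L
  have hdisj : ∀ J : Ideal S, J ≤ P₁ → Disjoint (N : Set S) J := by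
    intro J hJ
    rw [Set.disjoint_left]
    rintro _ ⟨m, hm, rfl⟩ hmJ
    refine hM hm ?_
    rw [Ideal.LiesOver.over (P := P₁) (p := p), SetLike.mem_coe, Ideal.mem_comap, MvPolynomial.algebraMap_eq]
    exact hJ hmJ
  let Q' : Ideal S' := Q.map (algebraMap S S')
  let P' : Ideal S' := P₁.map (algebraMap S S')
  haveI : Q'.IsPrime := IsLocalization.isPrime_of_isPrime_disjoint N S' Q inferInstance (hdisj Q hQP)
  haveI : P'.IsPrime := IsLocalization.isPrime_of_isPrime_disjoint N S' P₁ inferInstance (hdisj P₁ le_rfl)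
  haveI : IsNoetherianRing L := hUC.1
  haveI : IsDomain L := IsLocalization.isDomain_of_le_nonZeroDivisors L (M := M) (fun m hm =>
    mem_nonZeroDivisors_of_ne_zero fun h0 => hM hm (by rw [h0]; exact zero_mem _))
  have heq := height_eq_add_of_isCatenary (hUC.2 S' inferInstance) Q' P' (Ideal.map_mono hQP)
  have hQh : Q'.height = a := by
    rw [ha, ← IsLocalization.height_under N Q', IsLocalization.under_map_of_isPrime_disjoint N S' inferInstance (hdisj Q hQP)]
  have hPh : P'.height = b := by
    rw [hb, ← IsLocalization.height_under N P', IsLocalization.under_map_of_isPrime_disjoint N S' inferInstance (hdisj P₁ le_rfl)]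
  let q : S ⧸ Q →+* S' ⧸ Q' := Ideal.quotientMap Q' (algebraMap S S') Ideal.le_comap_map
  have hq : StrictMono (PrimeSpectrum.comap q) := by
    refine Monotone.strictMono_of_injective (fun x y hxy => Ideal.comap_mono hxy) fun x y hxy => ?_
    have h1 : (x.asIdeal.comap (Ideal.Quotient.mk Q')).comap (algebraMap S S') =
        (y.asIdeal.comap (Ideal.Quotient.mk Q')).comap (algebraMap S S') := by
      have := congrArg (fun z => (PrimeSpectrum.asIdeal z).comap (Ideal.Quotient.mk Q)) hxy
      simpa [q, Ideal.comap_comap, Ideal.quotientMap_comp_mk] using this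
    refine PrimeSpectrum.ext (Ideal.comap_injective_of_surjective _ Ideal.Quotient.mk_surjective ?_)
    rw [← IsLocalization.map_under N S' (x.asIdeal.comap (Ideal.Quotient.mk Q')),
      ← IsLocalization.map_under N S' (y.asIdeal.comap (Ideal.Quotient.mk Q'))]
    exact congrArg (Ideal.map (algebraMap S S')) h1
  haveI : (P'.map (Ideal.Quotient.mk Q')).IsPrime := Ideal.isPrime_map_quotientMk_of_isPrime (Ideal.map_mono hQP)
  haveI : (P₁.map (Ideal.Quotient.mk Q)).IsPrime := Ideal.isPrime_map_quotientMk_of_isPrime hQP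
  have hle : (P'.map (Ideal.Quotient.mk Q')).height ≤ h := by
    rw [hh, ← hmap]
    rw [PrimeSpectrum.height_eq_orderHeight (⟨P'.map (Ideal.Quotient.mk Q'), inferInstance⟩ : PrimeSpectrum (S' ⧸ Q')),
      PrimeSpectrum.height_eq_orderHeight (⟨P₁.map (Ideal.Quotient.mk Q), inferInstance⟩ : PrimeSpectrum (S ⧸ Q))]
    refine (Order.height_le_height_apply_of_strictMono _ hq _).trans (le_of_eq (congrArg Order.height ?_))
    refine PrimeSpectrum.ext ?_
    refine Ideal.comap_injective_of_surjective _ Ideal.Quotient.mk_surjective ?_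
    show ((P'.map (Ideal.Quotient.mk Q')).comap q).comap (Ideal.Quotient.mk Q) = _
    rw [Ideal.comap_comap, Ideal.quotientMap_comp_mk, ← Ideal.comap_comap,
      Ideal.comap_map_of_surjective _ Ideal.Quotient.mk_surjective, ← RingHom.ker_eq_comap_bot, Ideal.mk_ker,
      sup_eq_left.2 (Ideal.map_mono hQP),
      Ideal.comap_map_of_surjective _ Ideal.Quotient.mk_surjective, ← RingHom.ker_eq_comap_bot, Ideal.mk_ker,
      sup_eq_left.2 hQP]
    exact IsLocalization.under_map_of_isPrime_disjoint N S' inferInstance (hdisj P₁ le_rfl)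
  rw [hQh, hPh] at heq
  obtain ⟨d, hd⟩ := ENat.ne_top_iff_exists.1 (ne_top_of_le_ne_top (ENat.natCast_ne_top h) hle)
  rw [← hd] at heq hle
  rw [← hh, ← hc]
  norm_cast at heq hle ⊢
  omega

end GrothLib.Altitude
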