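import Groth.Prelude.Def_Found
import Groth.Agent.Lib.AffDom.Formula
import Mathlib.Order.KrullDimension
import Mathlib.RingTheory.Ideal.KrullsHeightTheorem

/-!
Saturated chains of primes and additivity of heights in catenary domains.
-/

universe u

namespace GrothLib.Altitude

variable {α : Type*} [PartialOrder α]

/-- series of covering relations -/
abbrev CovSeries (α : Type*) [PartialOrder α] := RelSeries {p : α × α | p.1 ⋖ p.2}

/-- forget saturation -/
def CovSeries.toLT (s : CovSeries α) : LTSeries α := ⟨s.length, s.toFun, fun i => CovBy.lt (s.step i)⟩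

/-- An element of finite height `n` in an order with least element is the end of a saturated
chain of length `n`. -/
theorem exists_saturated [OrderBot α] : ∀ (n : ℕ) (x : α), Order.height x = n →
    ∃ s : CovSeries α, s.head = ⊥ ∧ s.last = x ∧ s.length = n := by
  intro n
  induction n with
  | zero =>
    intro x hx
    have hx0 : x = ⊥ := isMin_iff_eq_bot.1 (Order.height_eq_zero.1 hx)
    exact ⟨RelSeries.singleton _ x, hx0, rfl, rfl⟩
  | succ n ih =>
    intro x hx
    have hfin : Order.height x < ⊤ := by rw [hx]; exact ENat.natCast_lt_top _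
    obtain ⟨y, hy, hyn⟩ := (Order.coe_lt_height_iff (n := n) hfin).1 (by rw [hx]; norm_cast; omega)
    have hcov : y ⋖ x := by
      refine ⟨hy, fun z h1 h2 => ?_⟩
      have hz : Order.height z < Order.height x := Order.height_strictMono h2 ((Order.height_mono h2.le).trans_lt hfin)
      have hy' : Order.height y < Order.height z :=
        Order.height_strictMono h1 (by rw [hyn]; exact ENat.natCast_lt_top _)
      rw [hx] at hz
      rw [hyn] at hy'
      generalize Order.height z = h at hz hy'
      cases h using ENat.recTopCoe with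
      | top => simp at hz
      | coe m => norm_cast at hz hy'; omega
    obtain ⟨s, h1, h2, h3⟩ := ih y hyn
    refine ⟨s.snoc x (by show s.last ⋖ x; rw [h2]; exact hcov), ?_, RelSeries.last_snoc _ _ _, by simp [h3]⟩
    simpa using h1

variable {R : Type u} [CommRing R]

/-- Additivity of heights in a catenary domain with finite heights. -/
theorem height_eq_add_of_isCatenary [IsDomain R] [IsNoetherianRing R] (hR : CAlg.IsCatenary R)
    (Q P : Ideal R) [Q.IsPrime] [P.IsPrime] (h : Q ≤ P) :
    P.height = Q.height + (P.map (Ideal.Quotient.mk Q)).height := by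
  let π := Ideal.Quotient.mk Q
  have hP' : (P.map π).IsPrime := Ideal.isPrime_map_quotientMk_of_isPrime h
  obtain ⟨a, ha⟩ := ENat.ne_top_iff_exists.1 (Ideal.height_ne_top (I := Q) Ideal.IsPrime.ne_top')
  obtain ⟨b, hb⟩ := ENat.ne_top_iff_exists.1 (Ideal.height_ne_top (I := P.map π) Ideal.IsPrime.ne_top')
  obtain ⟨c, hc⟩ := ENat.ne_top_iff_exists.1 (Ideal.height_ne_top (I := P) Ideal.IsPrime.ne_top')
  rw [← ha, ← hb, ← hc]
  let q : PrimeSpectrum R := ⟨Q, inferInstance⟩
  let p : PrimeSpectrum R := ⟨P, inferInstance⟩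
  let p' : PrimeSpectrum (R ⧸ Q) := ⟨P.map π, hP'⟩
  letI : OrderBot (PrimeSpectrum R) := { bot := ⟨⊥, Ideal.isPrime_bot⟩, bot_le := fun x => (bot_le : (⊥ : Ideal R) ≤ x.asIdeal) }
  letI : OrderBot (PrimeSpectrum (R ⧸ Q)) :=
    { bot := ⟨⊥, Ideal.isPrime_bot⟩, bot_le := fun x => (bot_le : (⊥ : Ideal (R ⧸ Q)) ≤ x.asIdeal) }
  obtain ⟨s, s1, s2, s3⟩ := exists_saturated a q (by rw [← PrimeSpectrum.height_eq_orderHeight]; exact ha.symm)
  obtain ⟨t, t1, t2, t3⟩ := exists_saturated b p' (by rw [← PrimeSpectrum.height_eq_orderHeight]; exact hb.symm)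
  obtain ⟨w, w1, w2, w3⟩ := exists_saturated c p (by rw [← PrimeSpectrum.height_eq_orderHeight]; exact hc.symm)
  let f : PrimeSpectrum (R ⧸ Q) → PrimeSpectrum R := PrimeSpectrum.comap π
  have hinj : ∀ x y, f x ≤ f y → x ≤ y := fun x y hxy => by
    show x.asIdeal ≤ y.asIdeal
    rw [← Ideal.map_comap_of_surjective π Ideal.Quotient.mk_surjective x.asIdeal,
      ← Ideal.map_comap_of_surjective π Ideal.Quotient.mk_surjective y.asIdeal]
    exact Ideal.map_mono hxy
  have hmono : StrictMono f := fun x y hxy =>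
    lt_of_le_not_ge (Ideal.comap_mono hxy.le) fun hle => hxy.not_ge (hinj _ _ hle)
  have hcov : ∀ x y, x ⋖ y → f x ⋖ f y := fun x y hxy => by
    refine ⟨hmono hxy.lt, fun z h1 h2 => ?_⟩
    have hQz : Q ≤ z.asIdeal := by
      have : Q ≤ (f x).asIdeal := fun r hr => by
        show π r ∈ x.asIdeal
        rw [Ideal.Quotient.eq_zero_iff_mem.2 hr]; exact zero_mem _
      exact this.trans h1.le
    let z' : PrimeSpectrum (R ⧸ Q) := ⟨z.asIdeal.map π, Ideal.isPrime_map_quotientMk_of_isPrime hQz⟩
    have hz : f z' = z := PrimeSpectrum.ext (by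
      show (z.asIdeal.map π).comap π = z.asIdeal
      rw [Ideal.comap_map_of_surjective _ Ideal.Quotient.mk_surjective, ← RingHom.ker_eq_comap_bot,
        Ideal.mk_ker, sup_eq_left.mpr hQz])
    rw [← hz] at h1 h2
    exact hxy.2 (lt_of_le_not_ge (hinj _ _ h1.le) fun hle => h1.not_ge (Ideal.comap_mono hle))
      (lt_of_le_not_ge (hinj _ _ h2.le) fun hle => h2.not_ge (Ideal.comap_mono hle))
  let t' : CovSeries (PrimeSpectrum R) := ⟨t.length, f ∘ t.toFun, fun i => hcov _ _ (t.step i)⟩
  have ht0 : t'.head = q := by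
    show f t.head = q
    rw [t1]
    exact PrimeSpectrum.ext (by show (⊥ : Ideal (R ⧸ Q)).comap π = Q; rw [← RingHom.ker_eq_comap_bot, Ideal.mk_ker])
  have htl : t'.last = p := by
    show f t.last = p
    rw [t2]
    exact PrimeSpectrum.ext (by
      show (P.map π).comap π = P
      rw [Ideal.comap_map_of_surjective _ Ideal.Quotient.mk_surjective, ← RingHom.ker_eq_comap_bot,
        Ideal.mk_ker, sup_eq_left.mpr h])
  let u : CovSeries (PrimeSpectrum R) := RelSeries.smash s t' (s2.trans ht0.symm)
  have hu : u.length = a + b := by simp [u, t', s3, t3]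
  have := hR.2 u.toLT w.toLT (show u.head = w.head by rw [RelSeries.head_smash, s1, w1])
    (show u.last = w.last by rw [RelSeries.last_smash, htl, w2]) u.step w.step
  change u.length = w.length at this
  rw [hu, w3] at this
  exact_mod_cast this.symm

end GrothLib.Altitude
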