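import Groth.Agent.Lib.Altitude.Scheme
import Groth.Agent.Lib.AffDom.PointDim

/-!
Transcendence degree of residue fields versus dimension in fibres.
-/

universe u

open CategoryTheory AlgebraicGeometry TopologicalSpace

namespace GrothLib.Altitude

set_option maxHeartbeats 400000 in
theorem trdeg_eq_ptTrdeg_fiber {X Y : Scheme.{u}} (f : X ⟶ Y) (y : Y) (z : f.fiber y) :
    (letI := (f.residueFieldMap (f.fiberι y z)).hom.toAlgebra
     Algebra.trdeg (Y.residueField (f (f.fiberι y z))) (X.residueField (f.fiberι y z))) =
      GrothLib.AffDom.ptTrdeg (K := Y.residueField y)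
        (f.fiberToSpecResidueField y : f.fiber y ⟶ Spec (CommRingCat.of (Y.residueField y))) z := by
  have hy : f (f.fiberι y z) = y := by
    have : f.fiberι y z ∈ f ⁻¹' {y} := f.range_fiberι y ▸ Set.mem_range_self z
    exact this
  letI := (f.residueFieldMap (f.fiberι y z)).hom.toAlgebra
  haveI : FaithfulSMul (Y.residueField (f (f.fiberι y z))) (X.residueField (f.fiberι y z)) :=
    (faithfulSMul_iff_algebraMap_injective _ _).2 (RingHom.injective _)
  have hsurj : ∀ {A B : Type u} [Field A] [Field B] (a : A →+* B), Function.Surjective a →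
      ∀ w : B, ∃ r s : A, a s ≠ 0 ∧ w * a s = a r := fun a ha w => by
    obtain ⟨r, rfl⟩ := ha w
    exact ⟨r, 1, by simp, by simp⟩
  refine trdeg_congr_hom (GrothLib.AffDom.toRes (K := Y.residueField y) (f.fiberToSpecResidueField y : f.fiber y ⟶ Spec (CommRingCat.of (Y.residueField y))) z)
    (Y.residueFieldCongr hy).hom.hom ((f.fiberι y).residueFieldMap z).hom ?_ (RingHom.injective _)
    (RingHom.injective _) (hsurj _ (ConcreteCategory.bijective_of_isIso (Y.residueFieldCongr hy).hom).surjective)
    (hsurj _ (GrothLib.AffDom.residueFieldMap_surjective _ z))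
  let g : f.fiber y ⟶ Spec (CommRingCat.of (Y.residueField y)) := f.fiberToSpecResidueField y
  let τ : Y.residueField y ⟶ (f.fiber y).residueField z :=
    CommRingCat.ofHom (GrothLib.AffDom.toRes (K := Y.residueField y) g z)
  have hτ : Spec.map τ = (f.fiber y).fromSpecResidueField z ≫ f.fiberToSpecResidueField y :=
    GrothLib.AffDom.SpecMap_toRes (K := Y.residueField y) g z
  have h : (Y.residueFieldCongr hy).hom ≫ τ =
      f.residueFieldMap (f.fiberι y z) ≫ (f.fiberι y).residueFieldMap z := by
    apply Spec.map_injective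
    rw [Spec.map_comp, Spec.map_comp, hτ, ← cancel_mono (Y.fromSpecResidueField _)]
    simp only [Category.assoc, Scheme.residueFieldCongr_fromSpecResidueField,
      Scheme.Hom.SpecMap_residueFieldMap_fromSpecResidueField,
      Scheme.Hom.SpecMap_residueFieldMap_fromSpecResidueField_assoc]
    rw [← f.fiber_fac y]
  exact congrArg CommRingCat.Hom.hom h

/-- In a fibre, the transcendence degree of the residue field is the dimension of the closure. -/
theorem exists_trdeg_eq_dim_closure {X Y : Scheme.{u}} (f : X ⟶ Y) [LocallyOfFiniteType f] (x : X) :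
    ∃ n : ℕ, (letI := (f.residueFieldMap x).hom.toAlgebra
      Algebra.trdeg (Y.residueField (f x)) (X.residueField x)) = n ∧
      topologicalKrullDim (closure {f.asFiber x} : Set (f.fiber (f x))) = n := by
  let g : f.fiber (f x) ⟶ Spec (CommRingCat.of (Y.residueField (f x))) := f.fiberToSpecResidueField (f x)
  have : LocallyOfFiniteType g := MorphismProperty.pullback_snd f (Y.fromSpecResidueField _) ‹_›
  obtain ⟨n, h1, h2⟩ := GrothLib.AffDom.exists_dim_closure (K := Y.residueField (f x)) g (f.asFiber x)
  refine ⟨n, ?_, h1⟩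
  rw [← trdeg_eq_ptTrdeg_fiber f (f x) (f.asFiber x)] at h2
  rw [Scheme.Hom.fiberι_asFiber] at h2
  exact h2

end GrothLib.Altitude
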